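import Groth.Agent.ProjAff.Basic
import Groth.Agent.FormalExist.BaseChange
import Groth.Agent.CohAff.RcIso
import Groth.Agent.CohAff.ResOps
import Groth.Agent.AmpCrit.Acyclic

/-!
# Higher direct images along a base change of a projection vanish for an acyclic kernel
-/

set_option autoImplicit false
set_option linter.style.haveILetI false

universe u

open CategoryTheory CategoryTheory.Limits AlgebraicGeometry TopologicalSpace Opposite

noncomputable section

namespace Groth.Agent.KerVan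

open Groth.Agent.CohAff

/-- The restriction of the projection of a fibre product to the preimage of an affine open is affine. -/
theorem isAffineHom_ι_snd {T X S : Scheme.{u}} [IsAffine S] (t : T ⟶ S) (a : X ⟶ S) {T' : T.Opens}
    (hT' : IsAffineOpen T') : IsAffineHom ((pullback.fst t a ⁻¹ᵁ T').ι ≫ pullback.snd t a) := by
  haveI : IsAffine (T' : Scheme.{u}) := hT'
  haveI : IsAffineHom (T'.ι ≫ t) := isAffineHom_of_isAffine _
  exact MorphismProperty.of_isPullback
    ((isPullback_morphismRestrict (pullback.fst t a) T').paste_vert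
      (IsPullback.of_hasPullback t a)) ‹IsAffineHom (T'.ι ≫ t)›

/-- Restriction of a product of pullbacks. -/
theorem nonempty_restrict_tensor {Z Z' A B C : Scheme.{u}} (j : Z' ⟶ Z) [IsOpenImmersion j]
    (u : Z ⟶ A) (v : Z ⟶ B) (i : C ⟶ A) (r : Z' ⟶ C) (w : r ≫ i = j ≫ u) (F : A.Modules) (K : B.Modules) :
    Nonempty ((CohB1.tensorMod ((Scheme.Modules.pullback u).obj F) ((Scheme.Modules.pullback v).obj K)).restrict j ≅
      CohB1.tensorMod ((Scheme.Modules.pullback r).obj ((Scheme.Modules.pullback i).obj F))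
        ((Scheme.Modules.pullback (j ≫ v)).obj K)) :=
  ⟨(Scheme.Modules.restrictFunctorIsoPullback j).app _ ≪≫ KFlat.PullTensor.pullTensorIso j _ _ ≪≫
    ((DCoh.tensorBi (X := Z')).mapIso ((Scheme.Modules.pullbackComp j u).app F ≪≫
      (Scheme.Modules.pullbackCongr w.symm).app F ≪≫ ((Scheme.Modules.pullbackComp r i).app F).symm)).app _ ≪≫
    (((DCoh.tensorBi (X := Z')).obj ((Scheme.Modules.pullback r).obj ((Scheme.Modules.pullback i).obj F))).mapIso
      ((Scheme.Modules.pullbackComp j v).app K))⟩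

/-- The direct image along the affine base change of a map from an affine scheme. -/
theorem nonempty_push_tensor {U X P Z : Scheme.{u}} {q : U ⟶ X} {p : P ⟶ X} {r : Z ⟶ U} {h : Z ⟶ P}
    (H : IsPullback r h q p) [IsAffineHom q] (F : U.Modules) [F.IsQuasicoherent] (K : P.Modules)
    [K.IsQuasicoherent] :
    Nonempty ((Coh.push h).obj (CohB1.tensorMod ((Scheme.Modules.pullback r).obj F) ((Scheme.Modules.pullback h).obj K)) ≅
      CohB1.tensorMod ((Scheme.Modules.pullback p).obj ((Coh.push q).obj F)) K) := by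
  haveI : IsAffineHom h := MorphismProperty.of_isPullback H ‹IsAffineHom q›
  haveI : ((Scheme.Modules.pullback r).obj F).IsQuasicoherent := QCoh.isQuasicoherent_pullback r F
  haveI := ProjAff.isIso_projMap h ((Scheme.Modules.pullback r).obj F) K
  haveI : Coh.IsQCoh F := ‹F.IsQuasicoherent›
  haveI : IsIso (FormalExist.BaseChange.θ H.w F) := S12131.result q p r h H F
  exact ⟨(asIso (TwistFlat.projMap h ((Scheme.Modules.pullback r).obj F) K)).symm ≪≫
    ((DCoh.tensorBi (X := P)).mapIso (asIso (FormalExist.BaseChange.θ H.w F)).symm).app K⟩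

theorem isZero_rpush {T X Y S : Scheme.{u}} [IsAffine S] (t : T ⟶ S) (a : X ⟶ S) (b : Y ⟶ S)
    [QuasiCompact a] [QuasiSeparated a] [HasInjectiveResolutions (pullback a b).Modules]
    (K : (pullback a b).Modules) [K.IsQuasicoherent]
    (hKac : ∀ (F : X.Modules), Coh.IsQCoh F → ∀ q : ℕ, 0 < q →
      IsZero ((Coh.Rpush (pullback.snd a b) q).obj
        (CohB1.tensorMod ((Scheme.Modules.pullback (pullback.fst a b)).obj F) K)))
    [HasInjectiveResolutions (pullback (pullback.snd t a) (pullback.fst a b)).Modules]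
    (g : pullback (pullback.snd t a) (pullback.fst a b) ⟶ pullback t b)
    (h₁ : g ≫ pullback.fst t b = pullback.fst _ _ ≫ pullback.fst t a)
    (h₂ : g ≫ pullback.snd t b = pullback.snd _ _ ≫ pullback.snd a b)
    (F : (pullback t a).Modules) [F.IsQuasicoherent] (n : ℕ) :
    IsZero ((Coh.Rpush g (n + 1)).obj (CohB1.tensorMod
      ((Scheme.Modules.pullback (pullback.fst (pullback.snd t a) (pullback.fst a b))).obj F)
      ((Scheme.Modules.pullback (pullback.snd (pullback.snd t a) (pullback.fst a b))).obj K))) := by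
  have H0 : IsPullback g (pullback.snd (pullback.snd t a) (pullback.fst a b)) (pullback.snd t b) (pullback.snd a b) := by
    have hl : IsPullback (pullback.fst (pullback.snd t a) (pullback.fst a b) ≫ pullback.fst t a)
        (pullback.snd (pullback.snd t a) (pullback.fst a b)) t (pullback.fst a b ≫ a) :=
      (IsPullback.of_hasPullback _ _).paste_horiz (IsPullback.of_hasPullback t a)
    rw [← h₁, pullback.condition] at hl
    exact IsPullback.of_right hl h₂ (IsPullback.of_hasPullback t b)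
  haveI : QuasiCompact g := MorphismProperty.of_isPullback H0.flip inferInstance
  haveI : QuasiSeparated g := MorphismProperty.of_isPullback H0.flip inferInstance
  generalize hu : pullback.fst (pullback.snd t a) (pullback.fst a b) = u at *
  generalize hv : pullback.snd (pullback.snd t a) (pullback.fst a b) = v at *
  have H1 : IsPullback u v (pullback.snd t a) (pullback.fst a b) := hu ▸ hv ▸ IsPullback.of_hasPullback _ _
  haveI : ((Scheme.Modules.pullback u).obj F).IsQuasicoherent := QCoh.isQuasicoherent_pullback u F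
  haveI : ((Scheme.Modules.pullback v).obj K).IsQuasicoherent := QCoh.isQuasicoherent_pullback v K
  let G := CohB1.tensorMod ((Scheme.Modules.pullback u).obj F) ((Scheme.Modules.pullback v).obj K)
  haveI hG : G.IsQuasicoherent := LimTop.TensorQC.isQuasicoherent_tensM _ _
  let R := FRes.ofMod G
  haveI : (R.Z 0).IsQuasicoherent := hG
  refine IsZero.of_iso ?_ (R.rpushIsoRc g n)
  let W : T.affineOpens × Y.affineOpens → (pullback t b).Opens := fun p =>
    pullback.fst t b ⁻¹ᵁ p.1.1 ⊓ pullback.snd t b ⁻¹ᵁ p.2.1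
  have hW : ∀ p, IsAffineOpen (W p) := fun p => by
    haveI := isAffineHom_ι_snd t b p.1.2
    have e := (p.2.2.preimage ((pullback.fst t b ⁻¹ᵁ p.1.1).ι ≫ pullback.snd t b)).image_of_isOpenImmersion
      (pullback.fst t b ⁻¹ᵁ p.1.1).ι
    rwa [Scheme.Hom.comp_preimage, Scheme.Hom.image_preimage_eq_opensRange_inf, Scheme.Opens.opensRange_ι] at e
  have hcov : ∀ s, ∃ p, s ∈ W p := fun s => by
    obtain ⟨T', hT', hs, -⟩ := exists_isAffineOpen_mem_and_subset (X := T) (Opens.mem_top (pullback.fst t b s))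
    obtain ⟨V, hV, hs', -⟩ := exists_isAffineOpen_mem_and_subset (X := Y) (Opens.mem_top (pullback.snd t b s))
    exact ⟨(⟨T', hT'⟩, ⟨V, hV⟩), hs, hs'⟩
  have hex : ∀ p (z : Γ(R.Z (n + 1), g ⁻¹ᵁ W p)), R.Ex (n + 1) _ z := by
    intro p
    haveI := isAffineHom_ι_snd t a p.1.2
    let U := pullback.fst t a ⁻¹ᵁ p.1.1
    let j := (u ⁻¹ᵁ U).ι
    have H : IsPullback (u ∣_ U) (j ≫ v) (U.ι ≫ pullback.snd t a) (pullback.fst a b) :=
      (isPullback_morphismRestrict u U).paste_vert H1
    haveI : IsAffineHom (j ≫ v) := MorphismProperty.of_isPullback H inferInstance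
    haveI : ((Scheme.Modules.pullback U.ι).obj F).IsQuasicoherent := QCoh.isQuasicoherent_pullback _ F
    let R₁ := R.restrict j
    haveI : (R₁.Z 0).IsQuasicoherent := inferInstanceAs ((R.restrict j).Z 0).IsQuasicoherent
    let R₂ := R₁.pushAff (j ≫ v)
    obtain ⟨e₁⟩ := nonempty_restrict_tensor j u v U.ι (u ∣_ U) (morphismRestrict_ι u U) F K
    obtain ⟨e₂⟩ := nonempty_push_tensor H ((Scheme.Modules.pullback U.ι).obj F) K
    have e : R₂.Z 0 ≅ CohB1.tensorMod ((Scheme.Modules.pullback (pullback.fst a b)).obj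
        ((Coh.push (U.ι ≫ pullback.snd t a)).obj ((Scheme.Modules.pullback U.ι).obj F))) K :=
      (Coh.push (j ≫ v)).mapIso e₁ ≪≫ e₂
    haveI : (R₂.Z 0).IsQuasicoherent := inferInstanceAs ((R₁.pushAff (j ≫ v)).Z 0).IsQuasicoherent
    have hz : IsZero (R₂.Rc (pullback.snd a b) n) :=
      ((hKac _ (QCoh.isQuasicoherent_pushforward _ _) (n + 1) n.succ_pos).of_iso
        ((Coh.Rpush (pullback.snd a b) (n + 1)).mapIso e)).of_iso (R₂.rpushIsoRc (pullback.snd a b) n).symm
    have hvan : R₁.Van (n + 1) ((j ≫ v) ⁻¹ᵁ (pullback.snd a b ⁻¹ᵁ p.2.1)) :=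
      (R₁.van_pushAff_iff (j ≫ v) (n + 1) _).1 fun z => R₂.ex_of_π'_eq_zero (pullback.snd a b) p.2.2 n z
        (congr($(congrArg (fun φ => Scheme.Modules.Hom.app φ p.2.1) ((IsZero.iff_id_eq_zero _).1 hz))
          (R₂.π' (pullback.snd a b) n p.2.1 z)))
    have e' : j ''ᵁ ((j ≫ v) ⁻¹ᵁ (pullback.snd a b ⁻¹ᵁ p.2.1)) = g ⁻¹ᵁ W p := by
      rw [Scheme.Hom.comp_preimage, Scheme.Hom.image_preimage_eq_opensRange_inf, Scheme.Opens.opensRange_ι]
      show u ⁻¹ᵁ (pullback.fst t a ⁻¹ᵁ p.1.1) ⊓ v ⁻¹ᵁ (pullback.snd a b ⁻¹ᵁ p.2.1) =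
        g ⁻¹ᵁ (pullback.fst t b ⁻¹ᵁ p.1.1) ⊓ g ⁻¹ᵁ (pullback.snd t b ⁻¹ᵁ p.2.1)
      rw [← Scheme.Hom.comp_preimage, ← Scheme.Hom.comp_preimage, ← Scheme.Hom.comp_preimage,
        ← Scheme.Hom.comp_preimage, h₁, h₂]
    intro z
    obtain ⟨c, hc⟩ := hvan (QCoh.res (R.Z (n + 1)) e'.le z)
    have h2 : R.Ex (n + 1) (j ''ᵁ ((j ≫ v) ⁻¹ᵁ (pullback.snd a b ⁻¹ᵁ p.2.1))) (QCoh.res (R.Z (n + 1)) e'.le z) :=
      ⟨c, hc⟩
    have h3 := h2.res e'.ge
    rwa [QCoh.res_res, QCoh.res_self] at h3
  haveI : (R.Rc g n).IsQuasicoherent := R.isQuasicoherent_Rc g n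
  have : Epi (0 : R.Rc g n ⟶ R.Rc g n) := AmpCrit.Acyclic.epi_of_surjective W hW hcov _ fun i x => by
    refine ⟨0, (map_zero _).trans ?_⟩
    obtain ⟨z, rfl⟩ := R.π'_surjective g (hW i) n x
    exact (R.π'_eq_zero_of_ex g n (hex i z)).symm
  exact IsZero.of_epi_zero (R.Rc g n) (R.Rc g n)

end Groth.Agent.KerVan

end
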